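import Mathlib
import Groth.Prelude.Def_W4c3severiratdpLat

/-!
The lattice of a del Pezzo surface: chamber representatives for stabilisers of reflections, and
enumeration of vectors with prescribed norm and degree.
-/

namespace Groth.Agent.DPLatticeLib

open W4c3severiratdp

/-- Dot product of lists. -/
def dotL : List ℤ → List ℤ → ℤ
  | x :: v, y :: w => x * y + dotL v w
  | _, _ => 0

/-- The form on coordinate lists. -/
def formL : List ℤ → List ℤ → ℤ
  | a :: v, b :: w => a * b - dotL v w
  | _, _ => 0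

/-- Coordinates as a list. -/
def toL {δ : ℕ} (v : DP δ) : List ℤ := v 0 :: List.ofFn fun i : Fin δ => v i.succ

theorem toL_injective {δ : ℕ} : Function.Injective (toL (δ := δ)) := by
  intro v w h
  simp only [toL, List.cons.injEq] at h
  funext i
  refine Fin.cases ?_ (fun j => congrFun (List.ofFn_injective h.2) j) i
  exact h.1

theorem dotL_ofFn : ∀ (n : ℕ) (v w : Fin n → ℤ), dotL (List.ofFn v) (List.ofFn w) = ∑ i, v i * w i
  | 0, _, _ => by simp [dotL]
  | n + 1, v, w => by rw [List.ofFn_succ, List.ofFn_succ, dotL, dotL_ofFn n, Fin.sum_univ_succ]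

theorem formL_toL {δ : ℕ} (v w : DP δ) : formL (toL v) (toL w) = form v w := by
  simp [formL, toL, dotL_ofFn, form]

theorem form_comm {δ : ℕ} (v w : DP δ) : form v w = form w v := by
  unfold form
  rw [mul_comm]
  simp_rw [mul_comm (v _)]

theorem form_add_smul {δ : ℕ} (v r w : DP δ) (c : ℤ) :
    form (v + c • r) w = form v w + c * form r w := by
  simp only [form, Pi.add_apply, Pi.smul_apply, smul_eq_mul, mul_sub, Finset.mul_sum, add_mul,
    Finset.sum_add_distrib, mul_assoc]
  ring

/-- The reflection in a root. -/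
def refl {δ : ℕ} (r : DP δ) (hr : form r r = -2) : DP δ ≃ₗ[ℤ] DP δ :=
  LinearEquiv.ofInvolutive
    { toFun := fun v => v + form v r • r
      map_add' := fun v w => by
        rw [show v + w = v + (1 : ℤ) • w by rw [one_smul], form_add_smul, one_smul, one_mul, add_smul]
        abel
      map_smul' := fun c v => by
        have h0 : form (0 : DP δ) r = 0 := by simp [form]
        rw [show c • v = (0 : DP δ) + c • v by rw [zero_add], form_add_smul, h0, zero_add, zero_add,
          RingHom.id_apply, smul_add, mul_smul] }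
    (fun v => by
      show v + form v r • r + form (v + form v r • r) r • r = v
      rw [form_add_smul, hr, add_assoc, ← add_smul]
      rw [show form v r + (form v r + form v r * -2) = 0 by ring, zero_smul, add_zero])

theorem refl_apply {δ : ℕ} (r : DP δ) (hr : form r r = -2) (v : DP δ) :
    refl r hr v = v + form v r • r := rfl

theorem form_refl {δ : ℕ} (r : DP δ) (hr : form r r = -2) (v w : DP δ) :
    form (refl r hr v) (refl r hr w) = form v w := by
  rw [refl_apply, refl_apply, form_add_smul, form_comm v, form_comm r, form_add_smul, form_add_smul,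
    hr, form_comm w v, form_comm r v]
  ring

theorem refl_fix {δ : ℕ} (r : DP δ) (hr : form r r = -2) {x : DP δ} (hx : form x r = 0) :
    refl r hr x = x := by rw [refl_apply, hx, zero_smul, add_zero]

/-- The generic height. -/
def height {δ : ℕ} (v : DP δ) : ℤ := ∑ i : Fin δ, ((i : ℤ) + 1) * v i.succ

theorem height_add_smul {δ : ℕ} (v r : DP δ) (c : ℤ) :
    height (v + c • r) = height v + c * height r := by
  simp only [height, Pi.add_apply, Pi.smul_apply, smul_eq_mul, mul_add, Finset.sum_add_distrib,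
    Finset.mul_sum]
  congr 1
  exact Finset.sum_congr rfl fun i _ => by ring

theorem sq_le_of_form {δ : ℕ} (h8 : δ ≤ 8) (v : DP δ) :
    (3 * v 0 + form (canon δ) v) ^ 2 ≤ 8 * (v 0 ^ 2 - form v v) := by
  have h1 : 3 * v 0 + form (canon δ) v = ∑ i : Fin δ, v i.succ := by
    simp [form, canon, Finset.sum_neg_distrib]
  have h2 : v 0 ^ 2 - form v v = ∑ i : Fin δ, v i.succ ^ 2 := by simp [form, pow_two]
  rw [h1, h2]
  refine (sq_sum_le_card_mul_sum_sq (s := Finset.univ) (f := fun i : Fin δ => v i.succ)).trans ?_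
  refine mul_le_mul_of_nonneg_right ?_ (Finset.sum_nonneg fun i _ => sq_nonneg _)
  simp only [Finset.card_univ, Fintype.card_fin]
  exact_mod_cast h8

theorem finite_type {δ : ℕ} (h8 : δ ≤ 8) (q k : ℤ) :
    {v : DP δ | form v v = q ∧ form (canon δ) v = k}.Finite := by
  let C : ℤ := 9 * k ^ 2 + 8 * |q| + 10 * |k| + 10
  let D : ℤ := C + |q| + 1
  refine Set.Finite.subset ((Set.Finite.pi (t := fun _ : Fin (δ + 1) => Set.Icc (-(D * D)) (D * D))
    fun _ => Set.finite_Icc _ _)) ?_
  rintro v ⟨hq, hk⟩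
  have h := sq_le_of_form h8 v
  rw [hq, hk] at h
  have hq1 := neg_abs_le q
  have hk1 := neg_abs_le k
  have hk2 := le_abs_self k
  have hC0 : 10 ≤ C := by simp only [C]; nlinarith [sq_nonneg k, abs_nonneg q, abs_nonneg k]
  have ha : |v 0| ≤ C := by
    rw [abs_le]
    constructor <;> nlinarith [sq_nonneg k, abs_nonneg q, abs_nonneg k, sq_nonneg (v 0 + 3 * k)]
  have hv0 : v 0 ^ 2 ≤ C ^ 2 := sq_le_sq' (abs_le.mp ha).1 (abs_le.mp ha).2
  have hsum : ∑ i : Fin δ, v i.succ ^ 2 = v 0 ^ 2 - q := by rw [← hq]; simp [form, pow_two]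
  intro i _
  have hle : v i ^ 2 ≤ D * D := by
    refine Fin.cases ?_ (fun j => ?_) i
    · nlinarith [abs_nonneg q]
    · have := Finset.single_le_sum (f := fun i : Fin δ => v i.succ ^ 2) (fun i _ => sq_nonneg _)
        (Finset.mem_univ j)
      simp only [hsum] at this
      nlinarith [abs_nonneg q]
  have hDD : 1 ≤ D * D := by nlinarith [abs_nonneg q]
  rw [Set.mem_Icc]
  constructor <;> nlinarith [sq_nonneg (v i - 1), sq_nonneg (v i + 1)]

/-- Conditions on a list of reflecting roots fixing `F`. -/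
def IsRootList {δ : ℕ} (F : List (DP δ)) (S : List (DP δ)) : Prop :=
  ∀ r ∈ S, form r r = -2 ∧ form (canon δ) r = 0 ∧ 0 < height r ∧ ∀ x ∈ F, form x r = 0

theorem isWeyl_refl {δ : ℕ} {r : DP δ} (hr : form r r = -2) (hK : form (canon δ) r = 0) :
    IsWeyl (refl r hr) := ⟨form_refl r hr, refl_fix r hr hK⟩

theorem isWeyl_trans {δ : ℕ} {g h : DP δ ≃ₗ[ℤ] DP δ} (hg : IsWeyl g) (hh : IsWeyl h) :
    IsWeyl (g.trans h) :=
  ⟨fun v w => by simp [hh.1, hg.1], by simp [hg.2, hh.2]⟩

theorem isWeyl_symm {δ : ℕ} {g : DP δ ≃ₗ[ℤ] DP δ} (hg : IsWeyl g) : IsWeyl g.symm :=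
  ⟨fun v w => by rw [← hg.1]; simp, by rw [LinearEquiv.symm_apply_eq, hg.2]⟩

theorem form_canon_map {δ : ℕ} {g : DP δ ≃ₗ[ℤ] DP δ} (hg : IsWeyl g) (v : DP δ) :
    form (canon δ) (g v) = form (canon δ) v := by
  conv_lhs => rw [← hg.2, hg.1]

/-- Every vector has a representative in the chamber of the roots. -/
theorem exists_chamber {δ : ℕ} (h8 : δ ≤ 8) (F S : List (DP δ)) (hS : IsRootList F S) (v : DP δ) :
    ∃ g : DP δ ≃ₗ[ℤ] DP δ, IsWeyl g ∧ (∀ x ∈ F, g x = x) ∧ ∀ r ∈ S, 0 ≤ form (g v) r := by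
  let O : Set (DP δ) := {w | ∃ g : DP δ ≃ₗ[ℤ] DP δ, IsWeyl g ∧ (∀ x ∈ F, g x = x) ∧ g v = w}
  have hO : O.Finite := by
    refine (finite_type h8 (form v v) (form (canon δ) v)).subset ?_
    rintro w ⟨g, hg, -, rfl⟩
    exact ⟨hg.1 v v, form_canon_map hg v⟩
  have hne : O.Nonempty :=
    ⟨v, LinearEquiv.refl ℤ _, ⟨fun _ _ => rfl, rfl⟩, fun _ _ => rfl, rfl⟩
  obtain ⟨w, ⟨g, hg, hF, rfl⟩, hmin⟩ := hO.exists_minimalFor height O hne
  refine ⟨g, hg, hF, fun r hr => ?_⟩
  by_contra hlt
  obtain ⟨h2, hK, hh, hfix⟩ := hS r hr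
  have hmem : refl r h2 (g v) ∈ O :=
    ⟨g.trans (refl r h2), isWeyl_trans hg (isWeyl_refl h2 hK),
      fun x hx => by rw [LinearEquiv.trans_apply, hF x hx, refl_fix r h2 (hfix x hx)], rfl⟩
  have hlow : height (refl r h2 (g v)) < height (g v) := by
    rw [refl_apply, height_add_smul]
    nlinarith
  exact absurd (hmin hmem hlow.le) (not_le.mpr hlow)

/-- The root exchanging the coordinates `i` and `i + 1`. -/
def transRoot (δ i : ℕ) : DP δ :=
  Fin.cases 0 fun j => if (j : ℕ) = i then -1 else if (j : ℕ) = i + 1 then 1 else 0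

/-- The Cremona root. -/
def cremRoot (δ : ℕ) : DP δ := Fin.cases 1 fun j => if (j : ℕ) < 3 then 1 else 0

/-- Simple roots: transpositions inside `[lo, hi)` and the Cremona root. -/
def roots (δ lo hi : ℕ) : List (DP δ) :=
  ((List.range δ).filter fun i => decide (lo ≤ i ∧ i + 1 < hi ∧ i + 1 < δ)).map (transRoot δ) ++
    (if 3 ≤ δ then [cremRoot δ] else [])

theorem form_transRoot {δ : ℕ} (v : DP δ) (i : ℕ) (hi : i + 1 < δ) :
    form v (transRoot δ i) = v (Fin.succ ⟨i, by omega⟩) - v (Fin.succ ⟨i + 1, hi⟩) := by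
  unfold form transRoot
  simp only [Fin.cases_zero, Fin.cases_succ, mul_zero, zero_sub]
  rw [← Finset.add_sum_erase _ _ (Finset.mem_univ (⟨i, by omega⟩ : Fin δ)),
    Finset.sum_eq_single (⟨i + 1, hi⟩ : Fin δ)]
  · simp; ring
  · intro b hb hb'
    have h1 : (b : ℕ) ≠ i := fun e => by simp [Finset.mem_erase, Fin.ext_iff, e] at hb
    have h2 : (b : ℕ) ≠ i + 1 := fun e => hb' (Fin.ext e)
    simp [h1, h2]
  · intro h
    simp [Finset.mem_erase, Fin.ext_iff] at h

/-- Candidate values of one coordinate. -/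
def cands : List ℤ := (List.range 25).map fun i => (12 : ℤ) - (i : ℕ)

/-- Lists with given flags (`true`: at most the previous entry), sum and sum of squares. -/
def sols : List Bool → ℤ → ℤ → ℤ → List (List ℤ)
  | [], _, S, Q => if S = 0 ∧ Q = 0 then [[]] else []
  | f :: fs, prev, S, Q =>
    if S * S ≤ ((fs.length : ℤ) + 1) * Q then
      (cands.filter fun b => decide (b * b ≤ Q) && (!f || decide (b ≤ prev))).flatMap
        fun b => (sols fs b (S - b) (Q - b * b)).map (List.cons b)
    else []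

/-- The flag conditions. -/
def Obeys : List Bool → ℤ → List ℤ → Prop
  | f :: fs, prev, b :: l => (f = true → b ≤ prev) ∧ Obeys fs b l
  | [], _, [] => True
  | _, _, _ => False

theorem mem_sols : ∀ (fs : List Bool) (prev : ℤ) (l : List ℤ), Obeys fs prev l →
    (l.map fun b => b * b).sum < 169 → l ∈ sols fs prev l.sum (l.map fun b => b * b).sum
  | [], _, [], _, _ => by simp [sols]
  | [], _, _ :: _, h, _ => h.elim
  | _ :: _, _, [], h, _ => h.elim
  | f :: fs, prev, b :: l, ⟨hf, h⟩, hQ => by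
    have hnn : 0 ≤ (l.map fun b => b * b).sum := List.sum_nonneg fun x hx => by
      obtain ⟨y, -, rfl⟩ := List.mem_map.mp hx
      exact mul_self_nonneg y
    simp only [List.map_cons, List.sum_cons] at hQ
    have hlen : ∀ (fs : List Bool) (prev : ℤ) (l : List ℤ), Obeys fs prev l → fs.length = l.length := by
      intro fs
      induction fs with
      | nil => intro p l h; cases l <;> simp_all [Obeys]
      | cons f fs ih =>
        intro p l h
        cases l with
        | nil => exact h.elim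
        | cons b l => simp [ih b l h.2]
    have ih := mem_sols fs b l h (by nlinarith [mul_self_nonneg b])
    have hCS : ((b :: l).sum) * (b :: l).sum ≤ ((fs.length : ℤ) + 1) * ((b :: l).map fun b => b * b).sum := by
      have := sq_sum_le_card_mul_sum_sq (s := Finset.univ) (f := fun i : Fin (b :: l).length => (b :: l)[i])
      simp only [Finset.card_univ, Fintype.card_fin, pow_two] at this
      rw [hlen fs b l h]
      have e1 : ∑ i : Fin (b :: l).length, (b :: l)[i] = (b :: l).sum := by
        rw [← List.sum_ofFn]; simp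
      have e2 : ∑ i : Fin (b :: l).length, (b :: l)[i] * (b :: l)[i] = ((b :: l).map fun b => b * b).sum := by
        rw [← List.sum_ofFn]
        congr 1
        conv_rhs => rw [show b :: l = List.ofFn fun i : Fin (b :: l).length => (b :: l)[i] from List.ofFn_getElem.symm]
        rw [List.map_ofFn]
        rfl
      rw [e1, e2] at this
      exact_mod_cast this
    simp only [sols]
    rw [if_pos (by simpa [List.map_cons, List.sum_cons] using hCS)]
    simp only [List.map_cons, List.sum_cons, List.mem_flatMap, List.mem_filter, List.mem_map]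
    refine ⟨b, ⟨?_, ?_⟩, l, ?_, rfl⟩
    · have h1 : b ≤ 12 := by nlinarith
      have h2 : -12 ≤ b := by nlinarith
      simp only [cands, List.mem_map, List.mem_range]
      exact ⟨(12 - b).toNat, by omega, by omega⟩
    · simp only [Bool.and_eq_true, decide_eq_true_eq, Bool.or_eq_true, Bool.not_eq_true']
      refine ⟨by nlinarith, ?_⟩
      cases f
      · exact Or.inl rfl
      · exact Or.inr (hf rfl)
    · simpa using ih

theorem of_mem_sols : ∀ (fs : List Bool) (prev S Q : ℤ) (l : List ℤ), l ∈ sols fs prev S Q →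
    l.length = fs.length ∧ l.sum = S ∧ (l.map fun b => b * b).sum = Q
  | [], _, S, Q, l, h => by
    unfold sols at h
    split_ifs at h with h' <;> simp_all
  | f :: fs, prev, S, Q, l, h => by
    unfold sols at h
    split_ifs at h with h'
    · simp only [List.mem_flatMap, List.mem_map] at h
      obtain ⟨b, -, l', hl', rfl⟩ := h
      obtain ⟨h1, h2, h3⟩ := of_mem_sols fs b _ _ l' hl'
      simp [h1, h2, h3]
    · simp at h

theorem nodup_sols : ∀ (fs : List Bool) (prev S Q : ℤ), (sols fs prev S Q).Nodup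
  | [], _, S, Q => by unfold sols; split_ifs <;> simp
  | f :: fs, prev, S, Q => by
    unfold sols
    split_ifs
    · refine List.nodup_flatMap.mpr ⟨fun b _ => (nodup_sols fs _ _ _).map (List.cons_injective), ?_⟩
      have hc : cands.Nodup := List.nodup_range.map fun i j h => by simpa using h
      refine (hc.filter _).imp fun {a b} hab l h1 h2 => ?_
      simp only [List.mem_map] at h1 h2
      obtain ⟨x, -, rfl⟩ := h1
      obtain ⟨y, -, hy⟩ := h2
      exact hab (List.cons.inj hy).1.symm
    · exact List.nodup_nil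

/-- All vectors with norm `q`, degree `k`, and flags, as lists. -/
def vecs (fs : List Bool) (q k : ℤ) : List (List ℤ) :=
  ((List.range 15).map fun i : ℕ => (i : ℤ) - 2).flatMap fun a =>
    (sols fs 0 (3 * a + k) (a * a - q)).map (List.cons a)

theorem obeys_iff : ∀ {n : ℕ} (g : Fin n → Bool) (v : Fin n → ℤ) (prev : ℤ),
    (∀ i : Fin n, g i = true → v i ≤ if h : (i : ℕ) = 0 then prev else v ⟨i - 1, by omega⟩) →
      Obeys (List.ofFn g) prev (List.ofFn v)
  | 0, _, _, _, _ => by simp [Obeys]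
  | n + 1, g, v, prev, h => by
    rw [List.ofFn_succ, List.ofFn_succ]
    refine ⟨fun hg => by simpa using h 0 hg, obeys_iff _ _ _ fun i hi => ?_⟩
    have h2 := h i.succ hi
    by_cases h0 : (i : ℕ) = 0
    · rw [dif_pos h0]
      simpa [h0] using h2
    · rw [dif_neg h0]
      rw [dif_neg (by simp)] at h2
      convert h2 using 2
      ext
      simp
      omega

/-- Flags for decreasing order inside `[lo, hi)`. -/
def flags (δ lo hi : ℕ) : List Bool := List.ofFn fun i : Fin δ => decide (lo < (i : ℕ) ∧ (i : ℕ) < hi)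

/-- Types we enumerate: `(q, k)` of conics and exceptional classes. -/
def GoodType (q k : ℤ) : Prop := (q = 0 ∧ k = -2) ∨ (q = -1 ∧ k = -1)

theorem mem_vecs {δ : ℕ} (h8 : δ ≤ 8) (g : Fin δ → Bool) {q k : ℤ} (hqk : GoodType q k) (v : DP δ)
    (hq : form v v = q) (hk : form (canon δ) v = k)
    (hg : ∀ i : Fin δ, g i = true → v i.succ ≤
      if h : (i : ℕ) = 0 then 0 else v (Fin.succ ⟨i - 1, by omega⟩)) :
    toL v ∈ vecs (List.ofFn g) q k := by
  have hb := sq_le_of_form h8 v
  rw [hq, hk] at hb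
  have ha : -2 ≤ v 0 ∧ v 0 ≤ 12 ∧ v 0 * v 0 - q < 169 := by
    rcases hqk with ⟨rfl, rfl⟩ | ⟨rfl, rfl⟩ <;>
    · have h1 : -2 ≤ v 0 := by nlinarith
      have h2 : v 0 ≤ 12 := by nlinarith
      exact ⟨h1, h2, by nlinarith⟩
  have hS : (List.ofFn fun i : Fin δ => v i.succ).sum = 3 * v 0 + k := by
    rw [← hk, List.sum_ofFn]; simp [form, canon, Finset.sum_neg_distrib]
  have hQ : ((List.ofFn fun i : Fin δ => v i.succ).map fun b => b * b).sum = v 0 * v 0 - q := by
    rw [← hq, List.map_ofFn, List.sum_ofFn]; simp [form]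
  simp only [vecs, List.mem_flatMap, List.mem_map, List.mem_range]
  refine ⟨v 0, ⟨(v 0 + 2).toNat, by omega, by omega⟩, _, ?_, rfl⟩
  rw [← hS, ← hQ]
  exact mem_sols _ _ _ (obeys_iff g _ 0 hg) (by rw [hQ]; exact ha.2.2)

/-- A chamber vector is one of the candidates. -/
theorem mem_vecs_of_chamber {δ : ℕ} (h8 : δ ≤ 8) (lo hi : ℕ) {q k : ℤ} (hqk : GoodType q k) (v : DP δ)
    (hq : form v v = q) (hk : form (canon δ) v = k) (hS : ∀ r ∈ roots δ lo hi, 0 ≤ form v r) :
    toL v ∈ (vecs (flags δ lo hi) q k).filter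
      fun l => decide (∀ r ∈ (roots δ lo hi).map toL, 0 ≤ formL l r) := by
  rw [List.mem_filter]
  refine ⟨mem_vecs h8 _ hqk v hq hk fun i hi' => ?_, ?_⟩
  · simp only [decide_eq_true_eq] at hi'
    rw [dif_neg (by omega)]
    have hlt : (i : ℕ) - 1 + 1 < δ := by omega
    have h := hS (transRoot δ ((i : ℕ) - 1)) (by
      simp only [roots, List.mem_append, List.mem_map, List.mem_filter, List.mem_range,
        decide_eq_true_eq]
      exact Or.inl ⟨_, ⟨by omega, by omega, by omega, hlt⟩, rfl⟩)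
    rw [form_transRoot v _ hlt] at h
    have : (⟨(i : ℕ) - 1 + 1, hlt⟩ : Fin δ) = i := Fin.ext (by simp; omega)
    rw [this] at h
    linarith
  · simp only [decide_eq_true_eq, List.mem_map]
    rintro _ ⟨r, hr, rfl⟩
    rw [formL_toL]
    exact hS r hr

theorem of_mem_vecs {fs : List Bool} {q k : ℤ} {l : List ℤ} (h : l ∈ vecs fs q k) :
    l.length = fs.length + 1 ∧ ∃ a t, l = a :: t ∧ t.sum = 3 * a + k ∧
      (t.map fun b => b * b).sum = a * a - q := by
  simp only [vecs, List.mem_flatMap, List.mem_map] at h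
  obtain ⟨a, -, t, ht, rfl⟩ := h
  obtain ⟨h1, h2, h3⟩ := of_mem_sols _ _ _ _ _ ht
  exact ⟨by simp [h1], a, t, rfl, h2, h3⟩

theorem nodup_vecs (fs : List Bool) (q k : ℤ) : (vecs fs q k).Nodup := by
  unfold vecs
  refine List.nodup_flatMap.mpr ⟨fun a _ => (nodup_sols _ _ _ _).map List.cons_injective, ?_⟩
  refine (List.nodup_range.map fun i j h => by simpa using h).imp fun {a b} hab l h1 h2 => ?_
  simp only [List.mem_map] at h1 h2
  obtain ⟨x, -, rfl⟩ := h1
  obtain ⟨y, -, hy⟩ := h2
  exact hab (List.cons.inj hy).1.symm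

theorem isRootList_iff {δ : ℕ} (F S : List (DP δ)) : IsRootList F S ↔
    ∀ r ∈ S, form r r = -2 ∧ form (canon δ) r = 0 ∧ 0 < height r ∧ ∀ x ∈ F, form x r = 0 := Iff.rfl

instance {δ : ℕ} (F S : List (DP δ)) : Decidable (IsRootList F S) :=
  decidable_of_iff _ (isRootList_iff F S).symm

/-- The conic `(1; 1, 0, …, 0)`. -/
def conicBase (δ : ℕ) : DP δ := Fin.cases 1 fun j => if (j : ℕ) = 0 then 1 else 0

/-- The exceptional class `e_δ`. -/
def excBase (δ : ℕ) : DP δ := Fin.cases 0 fun j => if (j : ℕ) + 1 = δ then -1 else 0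

end Groth.Agent.DPLatticeLib
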