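import Mathlib
import Groth.Agent.DPLatticeLib.Basic

/-!
Orbits of exceptional classes and conics.
-/

namespace Groth.Agent.DPLatticeLib

open W4c3severiratdp

/-- Candidate chamber lists. -/
def chamberList (δ lo hi : ℕ) (q k : ℤ) : List (List ℤ) :=
  (vecs (flags δ lo hi) q k).filter fun l => decide (∀ r ∈ (roots δ lo hi).map toL, 0 ≤ formL l r)

/-- If the chamber list separates the given intersection numbers, chamber representatives are unique. -/
theorem exists_rep {δ : ℕ} (h8 : δ ≤ 8) (F : List (DP δ)) (lo hi : ℕ) {q k : ℤ} (hqk : GoodType q k)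
    (hroots : IsRootList F (roots δ lo hi)) (v : DP δ) (hq : form v v = q) (hk : form (canon δ) v = k) :
    ∃ g : DP δ ≃ₗ[ℤ] DP δ, IsWeyl g ∧ (∀ x ∈ F, g x = x) ∧ toL (g v) ∈ chamberList δ lo hi q k := by
  obtain ⟨g, hg, hF, hc⟩ := exists_chamber h8 F _ hroots v
  exact ⟨g, hg, hF, mem_vecs_of_chamber h8 lo hi hqk _ (by rw [hg.1, hq]) (by rw [form_canon_map hg, hk]) hc⟩

/-- Transitivity of a stabiliser from a separated chamber list. -/
theorem exists_map {δ : ℕ} (h8 : δ ≤ 8) (b : DP δ) (lo hi : ℕ) {q k : ℤ} (hqk : GoodType q k)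
    (hroots : IsRootList [b] (roots δ lo hi)) (P : ℤ → Prop)
    (huniq : ∀ l ∈ chamberList δ lo hi q k, ∀ l' ∈ chamberList δ lo hi q k,
      P (formL l (toL b)) → formL l (toL b) = formL l' (toL b) → l = l')
    (v w : DP δ) (hv : form v v = q) (hv' : form (canon δ) v = k) (hw : form w w = q)
    (hw' : form (canon δ) w = k) (heq : form v b = form w b) (hP : P (form v b)) :
    ∃ g : DP δ ≃ₗ[ℤ] DP δ, IsWeyl g ∧ g b = b ∧ g v = w := by
  obtain ⟨g, hg, hgb, hgv⟩ := exists_rep h8 [b] lo hi hqk hroots v hv hv'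
  obtain ⟨h, hh, hhb, hhw⟩ := exists_rep h8 [b] lo hi hqk hroots w hw hw'
  have hgb' := hgb b (List.mem_singleton.mpr rfl)
  have hhb' := hhb b (List.mem_singleton.mpr rfl)
  have e1 : form (g v) b = form v b := by conv_lhs => rw [← hgb', hg.1]
  have e2 : form (h w) b = form w b := by conv_lhs => rw [← hhb', hh.1]
  have := huniq _ hgv _ hhw (by rw [formL_toL, e1]; exact hP) (by rw [formL_toL, formL_toL, e1, e2, heq])
  refine ⟨g.trans h.symm, isWeyl_trans hg (isWeyl_symm hh), ?_, ?_⟩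
  · rw [LinearEquiv.trans_apply, hgb', LinearEquiv.symm_apply_eq, hhb']
  · rw [LinearEquiv.trans_apply, toL_injective this, LinearEquiv.symm_apply_apply]

/-- All conics are equivalent to `(1; 1, 0, …, 0)`. -/
theorem exists_to_conicBase {δ : ℕ} (h2 : 2 ≤ δ) (h8 : δ ≤ 8) (v : DP δ) (hv : IsConic v) :
    ∃ g : DP δ ≃ₗ[ℤ] DP δ, IsWeyl g ∧ g v = conicBase δ := by
  have hd : ∀ d : ℕ, d < 9 → 2 ≤ d → (IsRootList ([] : List (DP d)) (roots d 0 d) ∧
      ∀ l ∈ chamberList d 0 d 0 (-2), l = toL (conicBase d)) := by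
    decide +kernel
  obtain ⟨hr, hl⟩ := hd δ (by omega) h2
  obtain ⟨g, hg, -, hc⟩ := exists_rep h8 [] 0 δ (Or.inl ⟨rfl, rfl⟩) hr v hv.1 hv.2
  exact ⟨g, hg, toL_injective (hl _ hc)⟩

/-- All exceptional classes are equivalent on a degree one surface. -/
theorem exists_to_excBase (v : DP 8) (hv : IsExc v) :
    ∃ g : DP 8 ≃ₗ[ℤ] DP 8, IsWeyl g ∧ g v = excBase 8 := by
  have hd : IsRootList ([] : List (DP 8)) (roots 8 0 8) ∧
      ∀ l ∈ chamberList 8 0 8 (-1) (-1), l = toL (excBase 8) := by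
    decide +kernel
  obtain ⟨g, hg, -, hc⟩ := exists_rep le_rfl [] 0 8 (Or.inr ⟨rfl, rfl⟩) hd.1 v hv.1 hv.2
  exact ⟨g, hg, toL_injective (hd.2 _ hc)⟩

theorem isConic_map {δ : ℕ} {g : DP δ ≃ₗ[ℤ] DP δ} (hg : IsWeyl g) {v : DP δ} (hv : IsConic v) :
    IsConic (g v) := ⟨by rw [hg.1]; exact hv.1, by rw [form_canon_map hg]; exact hv.2⟩

theorem isExc_map {δ : ℕ} {g : DP δ ≃ₗ[ℤ] DP δ} (hg : IsWeyl g) {v : DP δ} (hv : IsExc v) :
    IsExc (g v) := ⟨by rw [hg.1]; exact hv.1, by rw [form_canon_map hg]; exact hv.2⟩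

end Groth.Agent.DPLatticeLib
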